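import Mathlib

/-!
Representations spanned by one orbit.

* `transitive_of_coprime`: coprime orbits, so the stabiliser of `b` is transitive on the orbit of `a`.
* `finrank_invariants_le_one_and_fixed`: reduction of the coprime-orbit statements to
  "invariants lie in the line of the orbit sum".
-/

namespace Cfsg.Agent.OrbitSpan

variable {k V H : Type*} [Field k] [AddCommGroup V] [Module k V] [Group H]

/-- The stabiliser of a vector. -/
def stab (ρ : Representation k H V) (a : V) : Subgroup H where
  carrier := {h | ρ h a = a}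
  one_mem' := by simp
  mul_mem' := by
    intro x y hx hy
    simp only [Set.mem_ofPred_eq] at hx hy ⊢
    rw [map_mul, Module.End.mul_apply, hy, hx]
  inv_mem' := by
    intro x hx
    simp only [Set.mem_ofPred_eq] at hx ⊢
    calc ρ x⁻¹ a = ρ x⁻¹ (ρ x a) := by rw [hx]
      _ = a := by rw [← Module.End.mul_apply, ← map_mul, inv_mul_cancel, map_one, Module.End.one_apply]

theorem mem_stab {ρ : Representation k H V} {a : V} {h : H} : h ∈ stab ρ a ↔ ρ h a = a := Iff.rfl

theorem apply_eq_iff {ρ : Representation k H V} {a : V} {g h : H} :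
    ρ g a = ρ h a ↔ g⁻¹ * h ∈ stab ρ a := by
  rw [mem_stab, map_mul, Module.End.mul_apply]
  constructor
  · intro e
    rw [← e, ← Module.End.mul_apply, ← map_mul, inv_mul_cancel, map_one, Module.End.one_apply]
  · intro e
    have := congrArg (ρ g) e
    rwa [← Module.End.mul_apply, ← map_mul, mul_inv_cancel, map_one, Module.End.one_apply,
      eq_comm] at this

/-- `q ↦ q • a` on the cosets of the stabiliser. -/
def cosetVec (ρ : Representation k H V) (a : V) : H ⧸ stab ρ a → V :=
  Quotient.lift (fun h => ρ h a) fun g h e =>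
    apply_eq_iff.mpr (QuotientGroup.leftRel_apply.mp e)

theorem cosetVec_mk (ρ : Representation k H V) (a : V) (h : H) :
    cosetVec ρ a (h : H ⧸ stab ρ a) = ρ h a := rfl

theorem card_orbit (ρ : Representation k H V) (a : V) :
    Nat.card {u : V | ∃ h : H, ρ h a = u} = (stab ρ a).index := by
  symm
  refine Nat.card_congr (Equiv.ofBijective
    (fun q => (⟨cosetVec ρ a q, q.out, by rw [← cosetVec_mk, QuotientGroup.out_eq']⟩ :
      {u : V | ∃ h : H, ρ h a = u})) ⟨?_, ?_⟩)
  · intro x y e
    induction x using QuotientGroup.induction_on with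
    | _ g => induction y using QuotientGroup.induction_on with
      | _ h => exact QuotientGroup.eq.mpr (apply_eq_iff.mp (congrArg Subtype.val e))
  · rintro ⟨u, h, rfl⟩
    exact ⟨(h : H ⧸ stab ρ a), rfl⟩

variable [Finite H]

/-- The sum of the orbit of `a`. -/
noncomputable def orbitSum (ρ : Representation k H V) (a : V) : V :=
  letI := Fintype.ofFinite (H ⧸ stab ρ a)
  ∑ q : H ⧸ stab ρ a, cosetVec ρ a q

theorem apply_orbitSum (ρ : Representation k H V) (a : V) (h : H) :
    ρ h (orbitSum ρ a) = orbitSum ρ a := by
  letI := Fintype.ofFinite (H ⧸ stab ρ a)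
  rw [orbitSum, map_sum]
  refine Fintype.sum_equiv (MulAction.toPerm h) _ _ fun q => ?_
  induction q using QuotientGroup.induction_on with
  | _ g =>
    show ρ h (ρ g a) = cosetVec ρ a ((h * g : H) : H ⧸ stab ρ a)
    rw [cosetVec_mk, map_mul, Module.End.mul_apply]

/-- If the orbit sizes of `a` and `b` are coprime, the stabiliser of `b` is transitive on the
orbit of `a`. -/
theorem transitive_of_coprime (ρ : Representation k H V) (a b : V)
    (hcop : ((stab ρ a).index).Coprime (stab ρ b).index) (h : H) :
    ∃ β ∈ stab ρ b, ρ β a = ρ h a := by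
  set A := stab ρ a
  set B := stab ρ b
  have h1 : (A ⊓ B).index = A.index * B.index :=
    le_antisymm (Subgroup.index_inf_le)
      (Nat.le_of_dvd (Nat.pos_of_ne_zero Subgroup.index_ne_zero_of_finite)
        (hcop.mul_dvd_of_dvd_of_dvd (Subgroup.index_dvd_of_le inf_le_left)
          (Subgroup.index_dvd_of_le inf_le_right)))
  have h2 : A.relIndex B = A.index := by
    have h3 := Subgroup.relIndex_mul_index (H := A ⊓ B) (K := B) inf_le_right
    rw [h1, Subgroup.inf_relIndex_right] at h3
    exact Nat.eq_of_mul_eq_mul_right (Nat.pos_of_ne_zero Subgroup.index_ne_zero_of_finite) h3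
  let f : B ⧸ A.subgroupOf B → H ⧸ A := Quotient.map' (fun x => (x : H)) fun x y e => by
    rw [QuotientGroup.leftRel_apply] at e ⊢
    exact e
  have hf : Function.Injective f := by
    intro x y e
    induction x using QuotientGroup.induction_on with
    | _ g => induction y using QuotientGroup.induction_on with
      | _ g' =>
        have e' : ((g : H) : H ⧸ A) = ((g' : H) : H ⧸ A) := e
        have e'' : (g : H)⁻¹ * (g' : H) ∈ A := QuotientGroup.eq.mp e'
        refine QuotientGroup.eq.mpr ?_
        rw [Subgroup.mem_subgroupOf]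
        exact e''
  obtain ⟨q, hq⟩ := ((Nat.bijective_iff_injective_and_card f).mpr ⟨hf, h2⟩).2 (h : H ⧸ A)
  induction q using QuotientGroup.induction_on with
  | _ β => exact ⟨β, β.2, apply_eq_iff.mpr (QuotientGroup.eq.mp hq)⟩

/-- Reduction: if, for `H` and for the stabiliser of each `b` with orbit coprime to that of `a`,
fixed vectors are multiples of the sum of the orbit of `a`, both conclusions follow. -/
theorem finrank_invariants_le_one_and_fixed (ρ : Representation k H V) (a : V)
    (hH : ∀ v, (∀ h, ρ h v = v) → v ∈ Submodule.span k {orbitSum ρ a})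
    (hB : ∀ b, ((stab ρ a).index).Coprime (stab ρ b).index →
      ∀ v, (∀ h ∈ stab ρ b, ρ h v = v) → v ∈ Submodule.span k {orbitSum ρ a}) :
    Module.finrank k ρ.invariants ≤ 1 ∧
    ∀ b : V, (Nat.card {u : V | ∃ h : H, ρ h a = u}).Coprime (Nat.card {u : V | ∃ h : H, ρ h b = u}) →
      ∀ h : H, ρ h b = b := by
  refine ⟨?_, fun b hcop h => ?_⟩
  · have hle : ρ.invariants ≤ Submodule.span k {orbitSum ρ a} := fun v hv =>
      hH v ((Representation.mem_invariants ρ v).mp hv)
    haveI : Module.Finite k ↥(Submodule.span k {orbitSum ρ a}) :=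
      Module.Finite.span_of_finite k (Set.finite_singleton _)
    refine le_trans (Submodule.finrank_mono hle) ?_
    refine le_trans (finrank_span_le_card ({orbitSum ρ a} : Set V)) ?_
    simp
  · rw [card_orbit, card_orbit] at hcop
    obtain ⟨c, hc⟩ := Submodule.mem_span_singleton.mp (hB b hcop b fun h hh => hh)
    rw [← hc, map_smul, apply_orbitSum]

/-- For a subgroup `B` transitive on the orbit of `a`, the orbit sum does not change. -/
theorem orbitSum_comp (ρ : Representation k H V) (a : V) (B : Subgroup H)
    (htr : ∀ h : H, ∃ β ∈ B, ρ β a = ρ h a) :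
    orbitSum (MonoidHom.comp ρ B.subtype : Representation k B V) a = orbitSum ρ a := by
  set ρ' : Representation k B V := MonoidHom.comp ρ B.subtype
  letI := Fintype.ofFinite (B ⧸ stab ρ' a)
  letI := Fintype.ofFinite (H ⧸ stab ρ a)
  let f : B ⧸ stab ρ' a → H ⧸ stab ρ a :=
    Quotient.map' (fun x => (x : H)) fun x y e => by
      rw [QuotientGroup.leftRel_apply] at e ⊢
      exact e
  have hf : Function.Bijective f := by
    refine ⟨fun x y e => ?_, fun q => ?_⟩
    · induction x using QuotientGroup.induction_on with
      | _ g => induction y using QuotientGroup.induction_on with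
        | _ g' =>
          have e' : ((g : H) : H ⧸ stab ρ a) = ((g' : H) : H ⧸ stab ρ a) := e
          have e'' : (g : H)⁻¹ * (g' : H) ∈ stab ρ a := QuotientGroup.eq.mp e'
          exact QuotientGroup.eq.mpr e''
    · induction q using QuotientGroup.induction_on with
      | _ h =>
        obtain ⟨β, hβ, e⟩ := htr h
        exact ⟨((⟨β, hβ⟩ : B) : B ⧸ stab ρ' a), QuotientGroup.eq.mpr (apply_eq_iff.mp e)⟩
  refine Fintype.sum_bijective f hf _ _ fun q => ?_
  induction q using QuotientGroup.induction_on with
  | _ g => rfl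

omit [Finite H] in
/-- For a subgroup `B` transitive on the orbit of `a`, the orbit does not change. -/
theorem orbit_comp (ρ : Representation k H V) (a : V) (B : Subgroup H)
    (htr : ∀ h : H, ∃ β ∈ B, ρ β a = ρ h a) :
    {u : V | ∃ β : B, (MonoidHom.comp ρ B.subtype : Representation k B V) β a = u} =
      {u : V | ∃ h : H, ρ h a = u} := by
  ext u
  constructor
  · rintro ⟨β, rfl⟩; exact ⟨(β : H), rfl⟩
  · rintro ⟨h, rfl⟩
    obtain ⟨β, hβ, e⟩ := htr h
    exact ⟨⟨β, hβ⟩, e⟩

end Cfsg.Agent.OrbitSpan
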